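import Mathlib

/-!
Arithmetic bounds for the orders of the finite groups of Lie type in terms of their defining
characteristic parts.
-/

set_option autoImplicit false

namespace Cfsg.Agent.LieBound

/-- The order `N` is below the cube, and its cube below the eighth power, of its `p`-part. -/
def Small (p N : ℕ) : Prop :=
  N < p ^ (3 * N.factorization p) ∧ N ^ 3 < p ^ (8 * N.factorization p)

variable {p f q : ℕ}

theorem factorization_eq {c N M k : ℕ} (hp : p.Prime) (h : c * N = p ^ k * M) (hc : ¬ p ∣ c) (hM : ¬ p ∣ M) :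
    N.factorization p = k := by
  have hc0 : c ≠ 0 := fun e => hc (e ▸ dvd_zero p)
  have hM0 : M ≠ 0 := fun e => hM (e ▸ dvd_zero p)
  have hN0 : N ≠ 0 := fun e => by
    rw [e, mul_zero] at h
    exact mul_ne_zero (pow_ne_zero _ hp.ne_zero) hM0 h.symm
  have := congrArg (fun x => x.factorization p) h
  simp only [Nat.factorization_mul hc0 hN0, Nat.factorization_mul (pow_ne_zero _ hp.ne_zero) hM0,
    Finsupp.add_apply, hp.factorization_pow, Finsupp.single_eq_same,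
    Nat.factorization_eq_zero_of_not_dvd hc, Nat.factorization_eq_zero_of_not_dvd hM, zero_add, add_zero] at this
  exact this

theorem small_of (hp : p.Prime) (hf : 1 ≤ f) (hq : q = p ^ f) {c N M a e : ℕ} (h : c * N = q ^ a * M)
    (hc : ¬ p ∣ c) (hM : ¬ p ∣ M) (hMe : M < q ^ e) (hea : 3 * e ≤ 5 * a) : Small p N := by
  subst hq
  rw [← pow_mul] at h
  have hk := factorization_eq hp h hc hM
  have hN : N ≤ p ^ (f * a) * M :=
    h ▸ Nat.le_mul_of_pos_left N (Nat.pos_of_ne_zero fun e => hc (e ▸ dvd_zero p))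
  have h8 : N ^ 3 < p ^ (8 * (f * a)) := by
    calc N ^ 3 ≤ (p ^ (f * a) * M) ^ 3 := Nat.pow_le_pow_left hN 3
      _ = p ^ (3 * (f * a)) * M ^ 3 := by rw [mul_pow, ← pow_mul, mul_comm (f * a) 3]
      _ < p ^ (3 * (f * a)) * ((p ^ f) ^ e) ^ 3 := by
          exact Nat.mul_lt_mul_of_pos_left (Nat.pow_lt_pow_left hMe (by norm_num)) (pow_pos hp.pos _)
      _ ≤ p ^ (8 * (f * a)) := by
          rw [← pow_mul, ← pow_mul, ← pow_add]
          exact Nat.pow_le_pow_right hp.pos (by nlinarith)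
  refine ⟨?_, hk ▸ h8⟩
  rw [hk]
  refine lt_of_pow_lt_pow_left₀ 3 (Nat.zero_le _) (h8.trans_le ?_)
  rw [← pow_mul]
  exact Nat.pow_le_pow_right hp.pos (by nlinarith)

theorem not_dvd_one (hp : p.Prime) : ¬ p ∣ 1 := fun h => hp.one_lt.ne' (Nat.dvd_one.1 h)

theorem not_dvd_pow_sub (hp : p.Prime) (hf : 1 ≤ f) (hq : q = p ^ f) {i : ℕ} (hi : 1 ≤ i) :
    ¬ p ∣ q ^ i - 1 := fun h => by
  subst hq
  have h1 : p ∣ (p ^ f) ^ i := dvd_pow (dvd_pow_self p (by omega)) (by omega)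
  have h2 : 1 ≤ (p ^ f) ^ i := Nat.one_le_pow _ _ (pow_pos hp.pos _)
  have := Nat.dvd_sub h1 h
  rw [Nat.sub_sub_self h2] at this
  exact not_dvd_one hp this

theorem not_dvd_pow_add (hp : p.Prime) (hf : 1 ≤ f) (hq : q = p ^ f) {i : ℕ} (hi : 1 ≤ i) :
    ¬ p ∣ q ^ i + 1 := fun h => by
  subst hq
  have h1 : p ∣ (p ^ f) ^ i := dvd_pow (dvd_pow_self p (by omega)) (by omega)
  exact not_dvd_one hp ((Nat.dvd_add_iff_right h1).2 h)

theorem not_dvd_mul' (hp : p.Prime) {a b : ℕ} (ha : ¬ p ∣ a) (hb : ¬ p ∣ b) : ¬ p ∣ a * b :=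
  fun h => (hp.dvd_mul.1 h).elim ha hb

theorem not_dvd_prod (hp : p.Prime) {ι : Type*} (s : Finset ι) (g : ι → ℕ) (h : ∀ i ∈ s, ¬ p ∣ g i) :
    ¬ p ∣ ∏ i ∈ s, g i := fun hd =>
  let ⟨i, hi, hi'⟩ := (Prime.dvd_finset_prod_iff hp.prime g).1 hd
  h i hi hi'

theorem not_dvd_gcd_sub (hp : p.Prime) (hf : 1 ≤ f) (hq : q = p ^ f) (n : ℕ) {i : ℕ} (hi : 1 ≤ i) :
    ¬ p ∣ Nat.gcd n (q ^ i - 1) := fun h =>
  not_dvd_pow_sub hp hf hq hi (h.trans (Nat.gcd_dvd_right _ _))

theorem not_dvd_gcd_add (hp : p.Prime) (hf : 1 ≤ f) (hq : q = p ^ f) (n : ℕ) {i : ℕ} (hi : 1 ≤ i) :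
    ¬ p ∣ Nat.gcd n (q ^ i + 1) := fun h =>
  not_dvd_pow_add hp hf hq hi (h.trans (Nat.gcd_dvd_right _ _))

theorem sub_lt_pow (hq : 2 ≤ q) (i : ℕ) : q ^ i - 1 < q ^ i :=
  Nat.sub_lt (pow_pos (by omega) _) one_pos

/-- A pair of factors of opposite signs. -/
theorem pair_lt (hq : 2 ≤ q) {i j : ℕ} (h : i ≤ j) :
    (q ^ i - 1) * (q ^ j + 1) < q ^ (i + j) + 1 := by
  have hi : 1 ≤ q ^ i := Nat.one_le_pow _ _ (by omega)
  have hij : q ^ i ≤ q ^ j := Nat.pow_le_pow_right (by omega) h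
  obtain ⟨A, hA⟩ := Nat.exists_eq_add_of_le hi
  rw [pow_add, hA, show 1 + A - 1 = A by omega]
  nlinarith

theorem pair_lt' (hq : 2 ≤ q) {i j : ℕ} (h : i < j) :
    (q ^ i - 1) * (q ^ j + 1) < q ^ (i + j) := by
  have hi : 1 ≤ q ^ i := Nat.one_le_pow _ _ (by omega)
  have hij : q ^ i < q ^ j := Nat.pow_lt_pow_right (by omega) h
  obtain ⟨A, hA⟩ := Nat.exists_eq_add_of_le hi
  rw [pow_add, hA, show 1 + A - 1 = A by omega]
  nlinarith

theorem two_mul_sum (j : ℕ) : 2 * ∑ i ∈ Finset.range j, (i + 2) = j * (j + 3) := by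
  induction j with
  | zero => simp
  | succ k ih => rw [Finset.sum_range_succ, mul_add, ih]; ring

theorem prod_lt (hq : 2 ≤ q) (e : ℕ → ℕ) : ∀ j, 1 ≤ j →
    ∏ i ∈ Finset.range j, (q ^ e i - 1) < q ^ ∑ i ∈ Finset.range j, e i := by
  intro j hj
  induction j, hj using Nat.le_induction with
  | base => simpa using sub_lt_pow hq (e 0)
  | succ k _ ih =>
    rw [Finset.prod_range_succ, Finset.sum_range_succ, pow_add]
    exact Nat.mul_lt_mul_of_lt_of_le ih (Nat.sub_le _ _) (pow_pos (by omega) _)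

/-- The alternating product of the unitary orders. -/
theorem uprod_lt (hq : 2 ≤ q) (j : ℕ) (hj : 1 ≤ j) :
    ∏ i ∈ Finset.range j, (if Even (i + 1) then q ^ (i + 2) + 1 else q ^ (i + 2) - 1) <
      q ^ ∑ i ∈ Finset.range j, (i + 2) := by
  have key : ∀ k,
      ∏ i ∈ Finset.range (2 * k), (if Even (i + 1) then q ^ (i + 2) + 1 else q ^ (i + 2) - 1) ≤
        q ^ ∑ i ∈ Finset.range (2 * k), (i + 2) := by
    intro k
    induction k with
    | zero => simp
    | succ k ih =>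
      rw [show 2 * (k + 1) = 2 * k + 1 + 1 by ring]
      rw [Finset.prod_range_succ, Finset.prod_range_succ, Finset.sum_range_succ, Finset.sum_range_succ,
        if_neg (show ¬ Even (2 * k + 1) by simp), if_pos (show Even (2 * k + 1 + 1) by simp [parity_simps]),
        mul_assoc, add_assoc (∑ i ∈ Finset.range (2 * k), (i + 2))]
      rw [pow_add _ (∑ i ∈ Finset.range (2 * k), (i + 2))]
      exact Nat.mul_le_mul ih (pair_lt' hq (by omega)).le
  obtain ⟨k, rfl | rfl⟩ := Nat.even_or_odd' j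
  · obtain ⟨k, rfl⟩ : ∃ l, k = l + 1 := ⟨k - 1, by omega⟩
    rw [show 2 * (k + 1) = 2 * k + 1 + 1 by ring]
    rw [Finset.prod_range_succ, Finset.prod_range_succ, Finset.sum_range_succ, Finset.sum_range_succ,
      if_neg (show ¬ Even (2 * k + 1) by simp), if_pos (show Even (2 * k + 1 + 1) by simp [parity_simps]),
      mul_assoc, add_assoc (∑ i ∈ Finset.range (2 * k), (i + 2))]
    rw [pow_add _ (∑ i ∈ Finset.range (2 * k), (i + 2))]
    exact Nat.mul_lt_mul_of_le_of_lt (key k) (pair_lt' hq (by omega)) (pow_pos (by omega) _)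
  · simp only [Finset.prod_range_succ, Finset.sum_range_succ, if_neg (show ¬ Even (2 * k + 1) by simp)]
    rw [pow_add _ (∑ i ∈ Finset.range (2 * k), (i + 2))]
    exact Nat.mul_lt_mul_of_le_of_lt (key k) (sub_lt_pow hq _) (pow_pos (by omega) _)

theorem two_mul_choose (n : ℕ) : 2 * (n * (n - 1) / 2) = n * (n - 1) :=
  Nat.two_mul_div_two_of_even (Nat.even_mul_pred_self n)

theorem classical_exp {n : ℕ} (hn : 3 ≤ n) :
    3 * ∑ i ∈ Finset.range (n - 1), (i + 2) ≤ 5 * (n * (n - 1) / 2) := by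
  have h1 := two_mul_sum (n - 1)
  have h2 := two_mul_choose n
  obtain ⟨k, rfl⟩ : ∃ k, n = k + 3 := ⟨n - 3, by omega⟩
  simp only [Nat.reduceSubDiff] at *
  nlinarith

/-- Rewriting the product of `q^n - q^i`. -/
theorem psl_prod (q n : ℕ) : ∏ i : Fin n, (q ^ n - q ^ (i : ℕ)) =
    q ^ (n * (n - 1) / 2) * ∏ i ∈ Finset.range n, (q ^ (i + 1) - 1) := by
  have h : ∀ i ∈ Finset.range n, q ^ n - q ^ i = q ^ i * (q ^ (n - i) - 1) := fun i hi => by
    have := Finset.mem_range.1 hi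
    rw [Nat.mul_sub, mul_one, ← pow_add, Nat.add_sub_cancel' (by omega)]
  rw [Fin.prod_univ_eq_prod_range (fun i => q ^ n - q ^ i) n, Finset.prod_congr rfl h,
    Finset.prod_mul_distrib, Finset.prod_pow_eq_pow_sum, Finset.sum_range_id]
  congr 1
  rw [← Finset.prod_range_reflect]
  refine Finset.prod_congr rfl fun i hi => ?_
  have := Finset.mem_range.1 hi
  congr 2
  omega

theorem sum_even (m : ℕ) : ∑ i ∈ Finset.range m, 2 * (i + 1) = m * (m + 1) := by
  induction m with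
  | zero => simp
  | succ k ih => rw [Finset.sum_range_succ, ih]; ring

end Cfsg.Agent.LieBound
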