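import Cfsg.Agent.Lib.LieBound.Arith
import Cfsg.Agent.Lib.Forms.SpOrder
import Cfsg.Agent.Lib.AutPSp.Main
import Cfsg.Agent.S0243
import Cfsg.Agent.S0280
import Cfsg.Agent.S0292
import Cfsg.Agent.S0293
import Cfsg.Agent.S0294

/-!
The order bound for the classical simple groups.
-/

set_option autoImplicit false

namespace Cfsg.Agent.LieBound

variable {F : Type} [Field F] [Fintype F] {p : ℕ} [CharP F p]

theorem exists_card (hp : p.Prime) : ∃ f, 1 ≤ f ∧ Fintype.card F = p ^ f :=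
  let ⟨n, _, h⟩ := FiniteField.card F p
  ⟨n, n.2, h⟩

theorem root_of_card (hp : p.Prime) {q k : ℕ} (hk : 1 ≤ k) (h : Fintype.card F = q ^ k) :
    ∃ f, 1 ≤ f ∧ q = p ^ f := by
  obtain ⟨n, hn, e⟩ := exists_card (F := F) hp
  obtain ⟨f, -, rfl⟩ := (Nat.dvd_prime_pow hp).1 (e ▸ h ▸ dvd_pow_self q (by omega) : q ∣ p ^ n)
  refine ⟨f, ?_, rfl⟩
  by_contra hf
  rw [show f = 0 by omega, pow_zero, one_pow] at h
  exact absurd h Fintype.one_lt_card.ne'

theorem two_le (hp : p.Prime) {q f : ℕ} (hf : 1 ≤ f) (hq : q = p ^ f) : 2 ≤ q :=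
  hq ▸ hp.two_le.trans (Nat.le_self_pow (by omega) p)

theorem psl (hp : p.Prime) (n : ℕ) (hn : 2 ≤ n) :
    (Nat.card (Matrix.ProjectiveSpecialLinearGroup (Fin n) F) <
        p ^ (3 * (Nat.card (Matrix.ProjectiveSpecialLinearGroup (Fin n) F)).factorization p)) ∧
      (n = 2 → Fintype.card F = p ^ (Nat.card (Matrix.ProjectiveSpecialLinearGroup (Fin n) F)).factorization p) ∧
      (3 ≤ n → Small p (Nat.card (Matrix.ProjectiveSpecialLinearGroup (Fin n) F))) := by
  obtain ⟨f, hf, hF⟩ := exists_card (F := F) hp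
  have h2 := two_le hp hf hF
  have hcard := S0243.result hF n hn
  rw [psl_prod] at hcard
  set N := Nat.card (Matrix.ProjectiveSpecialLinearGroup (Fin n) F)
  obtain ⟨k, rfl⟩ : ∃ k, n = k + 1 := ⟨n - 1, by omega⟩
  rw [Finset.prod_range_succ', mul_left_comm (Nat.gcd _ _), zero_add, pow_one,
    ← mul_assoc ((p ^ f) ^ _), mul_comm (p ^ f - 1) (Nat.gcd _ _ * N)] at hcard
  have h := Nat.eq_of_mul_eq_mul_right (by rw [← hF]; have := Fintype.one_lt_card (α := F); omega) hcard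
  have hM := not_dvd_prod hp (Finset.range k) (fun i => (p ^ f) ^ (i + 1 + 1) - 1)
    fun i _ => not_dvd_pow_sub hp hf rfl (by omega)
  have hc : ¬ p ∣ Nat.gcd (k + 1) (p ^ f - 1) := by
    have := not_dvd_gcd_sub hp hf rfl (k + 1) (i := 1) le_rfl
    rwa [pow_one] at this
  have hk : N.factorization p = f * ((k + 1) * k / 2) := by
    refine factorization_eq hp ?_ hc hM
    rw [pow_mul, h, Nat.add_sub_cancel]
  have small : 3 ≤ k + 1 → Small p N := fun h3 =>
    small_of hp hf rfl h hc hM (prod_lt (hF ▸ h2) (fun i => i + 2) k (by omega)) (by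
      simpa using classical_exp h3)
  refine ⟨?_, fun e => ?_, small⟩
  · by_cases h3 : 3 ≤ k + 1
    · exact (small h3).1
    obtain rfl : k = 1 := by omega
    rw [hk, show f * ((1 + 1) * 1 / 2) = f by simp, mul_comm 3 f, pow_mul]
    norm_num at h
    have h1 : N ≤ Nat.gcd 2 (p ^ f - 1) * N :=
      Nat.le_mul_of_pos_left _ (Nat.pos_of_ne_zero fun e => hc (by simp at e ⊢))
    rw [h] at h1
    refine h1.trans_lt ?_
    rw [pow_succ' (p ^ f) 2]
    exact Nat.mul_lt_mul_of_pos_left (sub_lt_pow (hF ▸ h2) 2) (by omega)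
  · obtain rfl : k = 1 := by omega
    rw [hk, hF]; simp

theorem psp (hp : p.Prime) (m : ℕ) (hm : 2 ≤ m) : Small p (Nat.card (Cfsg.PSp m F)) := by
  classical
  haveI := Fact.mk hp
  obtain ⟨f, hf, hF⟩ := exists_card (F := F) hp
  have h := Subgroup.card_eq_card_quotient_mul_card_subgroup (Subgroup.center (Matrix.symplecticGroup (Fin m) F))
  rw [FormsLib.card_symplecticGroup, AutPSp.card_center_sp p (by omega) hf hF, hF, mul_comm (Nat.card _)] at h
  have hc : ¬ p ∣ Nat.gcd 2 (p ^ f - 1) := by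
    have := not_dvd_gcd_sub hp hf rfl 2 (i := 1) le_rfl
    rwa [pow_one] at this
  refine small_of hp hf rfl h.symm hc ?_
    (prod_lt (two_le hp hf rfl) (fun i => 2 * (i + 1)) m (by omega)) ?_
  · exact not_dvd_prod hp _ _ fun i _ => not_dvd_pow_sub hp hf rfl (by omega)
  · rw [sum_even, pow_two]; nlinarith

theorem psu (hp : p.Prime) (n q : ℕ) (hF : Fintype.card F = q ^ 2) (hn : 3 ≤ n) :
    Small p (Nat.card (Cfsg.PSU n F q)) := by
  obtain ⟨f, hf, hq⟩ := root_of_card (F := F) hp (by omega) hF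
  have h2 := two_le hp hf hq
  have hcard := S0280.result hF n (by omega)
  obtain ⟨k, rfl⟩ : ∃ k, n = k + 1 := ⟨n - 1, by omega⟩
  rw [Finset.prod_range_succ', mul_left_comm (Nat.gcd _ _), if_pos (show Even 0 by simp), zero_add, pow_one,
    ← mul_assoc (q ^ _), mul_comm (q + 1) (Nat.gcd _ _ * _)] at hcard
  have h := Nat.eq_of_mul_eq_mul_right (by omega) hcard
  have hc : ¬ p ∣ Nat.gcd (k + 1) (q + 1) := by
    have := not_dvd_gcd_add hp hf hq (k + 1) (i := 1) le_rfl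
    rwa [pow_one] at this
  refine small_of hp hf hq h hc ?_ (uprod_lt h2 k (by omega)) (by simpa using classical_exp hn)
  refine not_dvd_prod hp _ _ fun i _ => ?_
  split_ifs
  exacts [not_dvd_pow_add hp hf hq (by omega), not_dvd_pow_sub hp hf hq (by omega)]

theorem omega_odd (hp : p.Prime) (m : ℕ) (hm : 3 ≤ m) (hodd : Odd (Fintype.card F)) :
    Small p (Nat.card (Cfsg.POmega F (Cfsg.quadFormOdd m F))) := by
  obtain ⟨f, hf, hF⟩ := exists_card (F := F) hp
  refine small_of hp hf rfl (S0292.result hF (hF ▸ hodd) m hm) (fun h => ?_) ?_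
    (prod_lt (two_le hp hf rfl) (fun i => 2 * (i + 1)) m (by omega)) ?_
  · rw [(Nat.prime_dvd_prime_iff_eq hp Nat.prime_two).1 h] at hF
    rw [hF] at hodd
    exact absurd hodd (Nat.not_odd_iff_even.2 (Nat.even_pow.2 ⟨even_two, by omega⟩))
  · exact not_dvd_prod hp _ _ fun i _ => not_dvd_pow_sub hp hf rfl (by omega)
  · rw [sum_even, pow_two]; nlinarith

theorem omega_exp {m : ℕ} (hm : 4 ≤ m) : 3 * (m + (m - 1) * (m - 1 + 1)) ≤ 5 * (m * (m - 1)) := by
  obtain ⟨k, rfl⟩ : ∃ k, m = k + 4 := ⟨m - 4, by omega⟩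
  rw [show k + 4 - 1 = k + 3 by omega]
  nlinarith

theorem omega_plus (hp : p.Prime) (m : ℕ) (hm : 4 ≤ m) :
    Small p (Nat.card (Cfsg.POmega F (Cfsg.quadFormPlus m F))) := by
  obtain ⟨f, hf, hF⟩ := exists_card (F := F) hp
  have h2 := two_le hp hf (rfl : p ^ f = p ^ f)
  have h := S0293.result hF m hm
  rw [mul_assoc] at h
  refine small_of hp hf rfl (e := m + (m - 1) * (m - 1 + 1)) h (not_dvd_gcd_sub hp hf rfl 4 (by omega)) ?_ ?_
    (omega_exp hm)
  · exact not_dvd_mul' hp (not_dvd_pow_sub hp hf rfl (by omega))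
      (not_dvd_prod hp _ _ fun i _ => not_dvd_pow_sub hp hf rfl (by omega))
  · rw [pow_add, ← sum_even]
    exact Nat.mul_lt_mul_of_le_of_lt (Nat.sub_le _ _) (prod_lt h2 (fun i => 2 * (i + 1)) (m - 1) (by omega))
      (pow_pos (by omega) _)

theorem omega_minus (hp : p.Prime) (m : ℕ) (hm : 4 ≤ m) (a b : F)
    (hab : ∀ z₁ z₂ : F, z₁ ^ 2 + a * z₁ * z₂ + b * z₂ ^ 2 = 0 → z₁ = 0 ∧ z₂ = 0) :
    Small p (Nat.card (Cfsg.POmega F (Cfsg.quadFormMinus (m - 1) F a b))) := by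
  obtain ⟨f, hf, hF⟩ := exists_card (F := F) hp
  have h2 := two_le hp hf (rfl : p ^ f = p ^ f)
  have h := S0294.result hF m hm a b hab
  rw [mul_assoc] at h
  refine small_of hp hf rfl (e := m + (m - 1) * (m - 1 + 1)) h (not_dvd_gcd_add hp hf rfl 4 (by omega)) ?_ ?_
    (omega_exp hm)
  · exact not_dvd_mul' hp (not_dvd_pow_add hp hf rfl (by omega))
      (not_dvd_prod hp _ _ fun i _ => not_dvd_pow_sub hp hf rfl (by omega))
  · obtain ⟨k, rfl⟩ : ∃ k, m = k + 4 := ⟨m - 4, by omega⟩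
    rw [show k + 4 - 1 = k + 2 + 1 by omega, Finset.prod_range_succ']
    have e1 : ((p ^ f) ^ (2 * (0 + 1)) - 1) * ((p ^ f) ^ (k + 4) + 1) < (p ^ f) ^ (2 + (k + 4)) := by
      simpa using pair_lt' (i := 2) (j := k + 4) h2 (by omega)
    have e2 := prod_lt h2 (fun i => 2 * (i + 1 + 1)) (k + 2) (by omega)
    rw [← sum_even, Finset.sum_range_succ']
    rw [show k + 4 + (∑ i ∈ Finset.range (k + 2), 2 * (i + 1 + 1) + 2 * (0 + 1)) =
      (∑ i ∈ Finset.range (k + 2), 2 * (i + 1 + 1)) + (2 + (k + 4)) by omega,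
      mul_left_comm, mul_comm ((p ^ f) ^ (k + 4) + 1), pow_add _ (∑ i ∈ Finset.range (k + 2), 2 * (i + 1 + 1))]
    exact Nat.mul_lt_mul_of_lt_of_le e2 e1.le (pow_pos (by omega) _)

end Cfsg.Agent.LieBound
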