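import Cfsg.Agent.Lib.LieBound.Classical
import Cfsg.Prelude.Def_LieTypeChar
import Cfsg.Agent.Lib.Suzuki.LieIso
import Cfsg.Agent.S1059
import Cfsg.Agent.S1062
import Cfsg.Agent.S1063
import Cfsg.Agent.S1064
import Cfsg.Agent.S1065
import Cfsg.Agent.S1066
import Cfsg.Agent.S1067
import Cfsg.Agent.S1068
import Cfsg.Agent.S1069

/-!
The order bound for the exceptional and twisted simple groups.
-/

set_option autoImplicit false

namespace Cfsg.Agent.LieBound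

variable {p : ℕ}

theorem mul_lt' {a b q i j : ℕ} (ha : a < q ^ i) (hb : b ≤ q ^ j) (hq : 2 ≤ q) : a * b < q ^ (i + j) := by
  rw [pow_add]; exact Nat.mul_lt_mul_of_lt_of_le ha hb (pow_pos (by omega) _)

theorem chev {F : Type} [Field F] [Fintype F] [CharP F p] (hp : p.Prime) :
    Small p (Nat.card ↥(Cfsg.Lie.chevG2.group F)) ∧ Small p (Nat.card ↥(Cfsg.Lie.chevF4.group F)) ∧
      Small p (Nat.card ↥(Cfsg.Lie.chevE6.group F)) ∧ Small p (Nat.card ↥(Cfsg.Lie.chevE7.group F)) ∧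
      Small p (Nat.card ↥(Cfsg.Lie.chevE8.group F)) := by
  obtain ⟨f, hf, hF⟩ := exists_card (F := F) hp
  have h2 := two_le hp hf (rfl : p ^ f = p ^ f)
  have d := fun i (hi : 1 ≤ i) => not_dvd_pow_sub hp hf (rfl : p ^ f = p ^ f) hi
  have g := fun n => by
    have := not_dvd_gcd_sub hp hf (rfl : p ^ f = p ^ f) n (i := 1) le_rfl
    rwa [pow_one] at this
  have l := fun i => sub_lt_pow h2 i
  have L := fun i => (l i).le
  refine ⟨?_, ?_, ?_, ?_, ?_⟩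
  · refine small_of hp hf rfl (c := 1) (a := 6) (e := 2 + 6)
      (by rw [one_mul, S1059.result hF, mul_assoc]) (not_dvd_one hp) ?_
      (mul_lt' (l 2) (L 6) h2) (by norm_num)
    exact not_dvd_mul' hp (d 2 (by norm_num)) (d 6 (by norm_num))
  · refine small_of hp hf rfl (c := 1) (a := 24) (e := 2 + 6 + 8 + 12)
      (M := ((p ^ f) ^ 2 - 1) * ((p ^ f) ^ 6 - 1) * ((p ^ f) ^ 8 - 1) * ((p ^ f) ^ 12 - 1))
      (by rw [one_mul, S1062.result hF]; ring) (not_dvd_one hp) ?_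
      (mul_lt' (mul_lt' (mul_lt' (l 2) (L 6) h2) (L 8) h2) (L 12) h2)
      (by norm_num)
    repeat' first | exact d _ (by norm_num) | apply not_dvd_mul' hp
  · refine small_of hp hf rfl (a := 36) (e := 2 + 5 + 6 + 8 + 9 + 12)
      (M := ((p ^ f) ^ 2 - 1) * ((p ^ f) ^ 5 - 1) * ((p ^ f) ^ 6 - 1) * ((p ^ f) ^ 8 - 1) * ((p ^ f) ^ 9 - 1) * ((p ^ f) ^ 12 - 1))
      ((S1063.result hF).trans (by ring)) (g 3) ?_
      (mul_lt' (mul_lt' (mul_lt' (mul_lt' (mul_lt' (l 2) (L 5) h2) (L 6) h2) (L 8) h2) (L 9) h2) (L 12) h2)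
      (by norm_num)
    repeat' first | exact d _ (by norm_num) | apply not_dvd_mul' hp
  · refine small_of hp hf rfl (a := 63) (e := 2 + 6 + 8 + 10 + 12 + 14 + 18)
      (M := ((p ^ f) ^ 2 - 1) * ((p ^ f) ^ 6 - 1) * ((p ^ f) ^ 8 - 1) * ((p ^ f) ^ 10 - 1) * ((p ^ f) ^ 12 - 1) * ((p ^ f) ^ 14 - 1) * ((p ^ f) ^ 18 - 1))
      ((S1064.result hF).trans (by ring)) (g 2) ?_
      (mul_lt' (mul_lt' (mul_lt' (mul_lt' (mul_lt' (mul_lt' (l 2) (L 6) h2) (L 8) h2) (L 10) h2) (L 12) h2)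
        (L 14) h2) (L 18) h2)
      (by norm_num)
    repeat' first | exact d _ (by norm_num) | apply not_dvd_mul' hp
  · refine small_of hp hf rfl (c := 1) (a := 120) (e := 2 + 8 + 12 + 14 + 18 + 20 + 24 + 30)
      (M := ((p ^ f) ^ 2 - 1) * ((p ^ f) ^ 8 - 1) * ((p ^ f) ^ 12 - 1) * ((p ^ f) ^ 14 - 1) * ((p ^ f) ^ 18 - 1) * ((p ^ f) ^ 20 - 1) * ((p ^ f) ^ 24 - 1) * ((p ^ f) ^ 30 - 1))
      (by rw [one_mul, S1065.result hF]; ring) (not_dvd_one hp) ?_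
      (mul_lt' (mul_lt' (mul_lt' (mul_lt' (mul_lt' (mul_lt' (mul_lt' (l 2) (L 8) h2) (L 12) h2) (L 14) h2)
        (L 18) h2) (L 20) h2) (L 24) h2) (L 30) h2)
      (by norm_num)
    repeat' first | exact d _ (by norm_num) | apply not_dvd_mul' hp

theorem twE6 {K : Type} [Field K] [Fintype K] [CharP K p] (hp : p.Prime) {q : ℕ} (hq : IsPrimePow q)
    (hK : Fintype.card K = q ^ 2) : Small p (Nat.card ↥(Cfsg.Lie.twistedE6 K q)) := by
  obtain ⟨f, hf, hqf⟩ := root_of_card (F := K) hp (by omega) hK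
  have h2 := two_le hp hf hqf
  refine small_of hp hf hqf (a := 36) (e := 2 + 5 + (6 + 9) + 8 + 12)
    (M := (q ^ 2 - 1) * (q ^ 5 + 1) * ((q ^ 6 - 1) * (q ^ 9 + 1)) * (q ^ 8 - 1) * (q ^ 12 - 1))
    ((S1066.result hq hK).trans (by ring)) ?_ ?_
    (mul_lt' (mul_lt' (mul_lt' (pair_lt' h2 (by omega)) (pair_lt' h2 (by omega)).le h2)
      (sub_lt_pow h2 8).le h2) (sub_lt_pow h2 12).le h2) (by norm_num)
  · have := not_dvd_gcd_add hp hf hqf 3 (i := 1) le_rfl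
    rwa [pow_one] at this
  · repeat' first
      | exact not_dvd_pow_sub hp hf hqf (by norm_num)
      | exact not_dvd_pow_add hp hf hqf (by norm_num)
      | apply not_dvd_mul' hp

theorem twD4 {K : Type} [Field K] [Fintype K] [CharP K p] (hp : p.Prime) {q : ℕ} (hq : IsPrimePow q)
    (hK : Fintype.card K = q ^ 3) : Small p (Nat.card ↥(Cfsg.Lie.twistedD4 K q)) := by
  obtain ⟨f, hf, hqf⟩ := root_of_card (F := K) hp (by omega) hK
  have h2 := two_le hp hf hqf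
  refine small_of hp hf hqf (c := 1) (a := 12) (e := 2 + 6 + 9)
    (M := (q ^ 2 - 1) * (q ^ 6 - 1) * (q ^ 8 + q ^ 4 + 1))
    (by rw [one_mul, S1067.result hq hK]; ring) (not_dvd_one hp) ?_
    (mul_lt' (mul_lt' (sub_lt_pow h2 2) (sub_lt_pow h2 6).le h2) ?_ h2) (by norm_num)
  · refine not_dvd_mul' hp (not_dvd_mul' hp (not_dvd_pow_sub hp hf hqf (by norm_num))
      (not_dvd_pow_sub hp hf hqf (by norm_num))) fun h => not_dvd_one hp ?_
    refine (Nat.dvd_add_iff_right (dvd_add ?_ ?_)).2 h <;> exact dvd_pow (hqf ▸ dvd_pow_self p (by omega)) (by norm_num)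
  · have h4 : q ^ 4 + 1 ≤ q ^ 8 := by
      have : q ^ 4 < q ^ 8 := Nat.pow_lt_pow_right (by omega) (by norm_num)
      omega
    calc q ^ 8 + q ^ 4 + 1 ≤ q ^ 8 * 2 := by omega
      _ ≤ q ^ 8 * q := Nat.mul_le_mul_left _ h2
      _ = q ^ 9 := by ring

theorem add_one_le {q : ℕ} (h2 : 2 ≤ q) (i : ℕ) : q ^ i + 1 ≤ q ^ (i + 1) := by
  have h1 : 1 ≤ q ^ i := Nat.one_le_pow _ _ (by omega)
  calc q ^ i + 1 ≤ q ^ i * 2 := by omega
    _ ≤ q ^ i * q := Nat.mul_le_mul_left _ h2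
    _ = q ^ (i + 1) := by ring

theorem suzuki {K : Type} [Field K] [Fintype K] {m : ℕ} (hm : 1 ≤ m)
    (hK : Fintype.card K = 2 ^ (2 * m + 1)) :
    Small 2 (Nat.card ↥(Cfsg.Lie.Sz K (2 ^ (m + 1)))) := by
  have hp := Nat.prime_two
  have hf : 1 ≤ 2 * m + 1 := by omega
  have h2 := two_le hp hf (rfl : 2 ^ (2 * m + 1) = 2 ^ (2 * m + 1))
  refine small_of hp hf rfl (c := 1) (a := 2) (e := 2 + 1) (M := ((2 ^ (2 * m + 1)) ^ 2 + 1) * ((2 ^ (2 * m + 1)) ^ 1 - 1))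
    ?_ (not_dvd_one hp) (not_dvd_mul' hp (not_dvd_pow_add hp hf rfl (by norm_num))
      (not_dvd_pow_sub hp hf rfl le_rfl)) ?_ (by norm_num)
  · rw [one_mul, Cfsg.Agent.Suzuki.card_lieSz hK hm, hK, pow_one, mul_assoc]
  · rw [mul_comm, add_comm 2 1]; exact pair_lt' h2 (by norm_num)

theorem twF4 {K : Type} [Field K] [Fintype K] {m : ℕ} (hK : Fintype.card K = 2 ^ (2 * m + 1)) :
    Small 2 (Nat.card ↥(Cfsg.Lie.twistedF4 K (2 ^ m))) := by
  have hp := Nat.prime_two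
  have hf : 1 ≤ 2 * m + 1 := by omega
  have h2 := two_le hp hf (rfl : 2 ^ (2 * m + 1) = 2 ^ (2 * m + 1))
  generalize hq : (2 : ℕ) ^ (2 * m + 1) = q at h2
  refine small_of hp hf hq.symm (c := 1) (a := 12) (e := 1 + (3 + 1) + 4 + (6 + 1))
    (M := (q ^ 1 - 1) * (q ^ 3 + 1) * (q ^ 4 - 1) * (q ^ 6 + 1)) ?_ (not_dvd_one hp) ?_
    (mul_lt' (mul_lt' (mul_lt' (sub_lt_pow h2 1) (add_one_le h2 3) h2) (sub_lt_pow h2 4).le h2)
      (add_one_le h2 6) h2) (by norm_num)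
  · rw [one_mul, S1068.result hK, hq, pow_one]; simp only [mul_assoc]
  · repeat' first
      | exact not_dvd_pow_sub hp hf hq.symm (by norm_num)
      | exact not_dvd_pow_add hp hf hq.symm (by norm_num)
      | apply not_dvd_mul' hp

theorem ree {K : Type} [Field K] [Fintype K] {m : ℕ} (hK : Fintype.card K = 3 ^ (2 * m + 1)) :
    Small 3 (Nat.card ↥(Cfsg.Lie.twistedG2 K (3 ^ m))) := by
  have hp := Nat.prime_three
  have hf : 1 ≤ 2 * m + 1 := by omega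
  have h2 := two_le hp hf (rfl : 3 ^ (2 * m + 1) = 3 ^ (2 * m + 1))
  generalize hq : (3 : ℕ) ^ (2 * m + 1) = q at h2
  refine small_of hp hf hq.symm (c := 1) (a := 3) (e := 1 + 3)
    (M := (q ^ 1 - 1) * (q ^ 3 + 1)) ?_ (not_dvd_one hp) ?_ (pair_lt' h2 (by norm_num)) (by norm_num)
  · rw [one_mul, S1069.result hK, hq, pow_one]; simp only [mul_assoc]
  · exact not_dvd_mul' hp (not_dvd_pow_sub hp hf hq.symm le_rfl) (not_dvd_pow_add hp hf hq.symm (by norm_num))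

end Cfsg.Agent.LieBound
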